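import Mathlib.GroupTheory.Sylow
import Mathlib.GroupTheory.NoncommPiCoprod
import Mathlib.GroupTheory.Nilpotent
import Mathlib.GroupTheory.Solvable
import Cfsg.Agent.S0031

/-!
# Fixed-point-free automorphisms with fourth power one

Gorenstein–Herstein: a finite group with a fixed-point-free automorphism `σ`, `σ ^ 4 = 1`, is
solvable. With `t = σ ^ 2`, every element inverted by `t` commutes with its image under `σ`, so its
prime power parts lie in the unique invariant Sylow subgroups; counting shows that the parts for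
different primes commute.
-/

set_option autoImplicit false

namespace CfsgLib.FpfFour

open Subgroup

variable {R : Type*} [Group R] [Finite R] {σ : MulAut R}

theorem mem_normalizer_of_forall {G : Type*} [Group G] [Finite G] {H : Subgroup G} {g : G}
    (h : ∀ x ∈ H, g * x * g⁻¹ ∈ H) : g ∈ normalizer (H : Set G) := by
  rw [mem_normalizer_iff_map_conj_eq]
  refine Subgroup.eq_of_le_of_card_ge ?_ (by rw [card_map_of_injective (MulAut.conj g).injective])
  rintro _ ⟨x, hx, rfl⟩
  exact h x hx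

/-- Every element is a twisted commutator. -/
theorem exists_inv_mul_map (hf : ∀ r, σ r = r → r = 1) (H : Subgroup R) (hH : ∀ h ∈ H, σ h ∈ H)
    {r : R} (hr : r ∈ H) : ∃ w ∈ H, r = w⁻¹ * σ w := by
  let f : H → H := fun w => ⟨(w : R)⁻¹ * σ w, mul_mem (inv_mem w.2) (hH _ w.2)⟩
  have hinj : Function.Injective f := fun u v h => by
    have h1 : (u : R)⁻¹ * σ u = (v : R)⁻¹ * σ v := congrArg Subtype.val h
    have h2 : σ ((v : R) * (u : R)⁻¹) = (v : R) * (u : R)⁻¹ := by
      rw [map_mul, map_inv, show σ (v : R) = (v : R) * ((v : R)⁻¹ * σ v) by group, ← h1]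
      group
    exact Subtype.ext (mul_inv_eq_one.1 (hf _ h2)).symm
  obtain ⟨w, hw⟩ := (Finite.injective_iff_surjective.1 hinj) ⟨r, hr⟩
  exact ⟨w, w.2, (congrArg Subtype.val hw).symm⟩

theorem pow_four_apply (h4 : σ ^ 4 = 1) (r : R) : σ (σ (σ (σ r))) = r := by
  have h := congrArg (fun f : MulAut R => f r) h4
  simpa [pow_succ, MulAut.mul_apply] using h

theorem prod_orbit (h4 : σ ^ 4 = 1) (hf : ∀ r, σ r = r → r = 1) (r : R) :
    r * σ r * σ (σ r) * σ (σ (σ r)) = 1 := by
  obtain ⟨w, -, rfl⟩ := exists_inv_mul_map hf ⊤ (fun h _ => mem_top _) (mem_top r)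
  simp only [map_mul, map_inv, pow_four_apply h4]
  group

theorem odd_card (h4 : σ ^ 4 = 1) (hf : ∀ r, σ r = r → r = 1) : Odd (Nat.card R) := by
  haveI : Fact (Nat.Prime 2) := ⟨Nat.prime_two⟩
  have hP : IsPGroup 2 (zpowers σ) := by
    intro x
    obtain ⟨k, hk⟩ := mem_zpowers_iff.1 x.2
    refine ⟨2, Subtype.ext ?_⟩
    rw [SubmonoidClass.coe_pow, ← hk, ← zpow_natCast, ← zpow_mul, mul_comm, zpow_mul, zpow_natCast]
    norm_num [h4]
  have h := hP.card_modEq_card_fixedPoints R
  have hone : Nat.card (MulAction.fixedPoints (zpowers σ) R) = 1 := by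
    rw [Nat.card_eq_one_iff_unique]
    refine ⟨⟨fun a b => Subtype.ext ?_⟩, ⟨⟨1, fun x => map_one (x : MulAut R)⟩⟩⟩
    rw [hf a (a.2 ⟨σ, mem_zpowers σ⟩), hf b (b.2 ⟨σ, mem_zpowers σ⟩)]
  rw [hone] at h
  exact Nat.odd_iff.2 h

/-- `x` is inverted by `σ ^ 2`. -/
def Inv (σ : MulAut R) (x : R) : Prop := σ (σ x) = x⁻¹

theorem Inv.pow {x : R} (hx : Inv σ x) (n : ℕ) : Inv σ (x ^ n) := by
  unfold Inv at *
  rw [map_pow, map_pow, hx, inv_pow]

theorem Inv.one : Inv σ (1 : R) := by simp [Inv]

theorem Inv.commute_map (h4 : σ ^ 4 = 1) (hf : ∀ r, σ r = r → r = 1) {x : R} (hx : Inv σ x) :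
    Commute x (σ x) := by
  have h := prod_orbit h4 hf x
  rw [hx, map_inv] at h
  show x * σ x = σ x * x
  calc x * σ x = x * σ x * x⁻¹ * (σ x)⁻¹ * (σ x * x) := by group
    _ = σ x * x := by rw [h, one_mul]

theorem fixed_inverted (hf : ∀ r, σ r = r → r = 1) {a : R} (ha : σ (σ a) = a) : σ a = a⁻¹ := by
  let A : Subgroup R := (σ * σ : MulAut R).toMonoidHom.eqLocus (MonoidHom.id R)
  have hA : ∀ h : R, h ∈ A ↔ σ (σ h) = h := fun h => Iff.rfl
  obtain ⟨w, hw, rfl⟩ := exists_inv_mul_map hf A (fun h hh => (hA _).2 (congrArg σ ((hA h).1 hh)))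
    ((hA a).2 ha)
  rw [map_mul, map_inv, (hA w).1 hw]
  group

theorem fixed_commute (hf : ∀ r, σ r = r → r = 1) {a b : R} (ha : σ (σ a) = a)
    (hb : σ (σ b) = b) : Commute a b := by
  have h := fixed_inverted hf (show σ (σ (a * b)) = a * b by rw [map_mul, map_mul, ha, hb])
  rw [map_mul, fixed_inverted hf ha, fixed_inverted hf hb, mul_inv_rev] at h
  have h' : Commute a⁻¹ b⁻¹ := h
  exact h'.inv_left.inv_right |> fun h2 => by simpa using h2

/-- The fixed points of `σ ^ 2`. -/
def fixedSq (σ : MulAut R) : Subgroup R := (σ * σ : MulAut R).toMonoidHom.eqLocus (MonoidHom.id R)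

theorem mem_fixedSq {a : R} : a ∈ fixedSq σ ↔ σ (σ a) = a := Iff.rfl

theorem eq_of_sq_eq (hodd : Odd (Nat.card R)) {x y : R} (h : x ^ 2 = y ^ 2) : x = y :=
  (powCoprime (Nat.coprime_two_right.2 hodd)).injective h

/-- Every element of an invariant subgroup is uniquely a fixed element times an inverted one. -/
theorem card_split (h4 : σ ^ 4 = 1) (hf : ∀ r, σ r = r → r = 1) (H : Subgroup R)
    (hH : ∀ h ∈ H, σ h ∈ H) :
    Nat.card H = Nat.card (fixedSq σ ⊓ H : Subgroup R) * Nat.card {x : R // x ∈ H ∧ Inv σ x} := by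
  have hodd := odd_card h4 hf
  let f : (fixedSq σ ⊓ H : Subgroup R) × {x : R // x ∈ H ∧ Inv σ x} → H :=
    fun z => ⟨(z.1 : R) * z.2.1, mul_mem z.1.2.2 z.2.2.1⟩
  have hf' : Function.Bijective f := by
    constructor
    · rintro ⟨⟨a, ha⟩, ⟨x, hx⟩⟩ ⟨⟨b, hb⟩, ⟨y, hy⟩⟩ h
      have h1 : a * x = b * y := congrArg Subtype.val h
      have h2 : a * x⁻¹ = b * y⁻¹ := by
        have := congrArg (fun r => σ (σ r)) h1
        simpa only [map_mul, mem_fixedSq.1 ha.1, mem_fixedSq.1 hb.1, show σ (σ x) = x⁻¹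
          from hx.2, show σ (σ y) = y⁻¹ from hy.2] using this
      have hxy : x = y := by
        refine eq_of_sq_eq hodd ?_
        calc x ^ 2 = (a * x⁻¹)⁻¹ * (a * x) := by rw [pow_two]; group
          _ = (b * y⁻¹)⁻¹ * (b * y) := by rw [h1, h2]
          _ = y ^ 2 := by rw [pow_two]; group
      subst hxy
      simp [mul_right_cancel h1]
    · rintro ⟨r, hr⟩
      set y := (σ (σ r))⁻¹ * r with hy
      set x := y ^ ((Nat.card R + 1) / 2) with hxdef
      have hyI : Inv σ y := by
        show σ (σ ((σ (σ r))⁻¹ * r)) = _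
        rw [map_mul, map_inv, map_mul, map_inv, pow_four_apply h4, mul_inv_rev, inv_inv]
      have hx2 : x * x = y := by
        obtain ⟨k, hk⟩ := hodd
        rw [hxdef, ← pow_add, show (Nat.card R + 1) / 2 + (Nat.card R + 1) / 2 = Nat.card R + 1 by
          omega, pow_succ, pow_card_eq_one', one_mul]
      have hxI : Inv σ x := hyI.pow _
      have hxH : x ∈ H := pow_mem (mul_mem (inv_mem (hH _ (hH _ hr))) hr) _
      refine ⟨⟨⟨r * x⁻¹, mem_fixedSq.2 ?_, H.mul_mem hr (H.inv_mem hxH)⟩, ⟨x, hxH, hxI⟩⟩,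
        Subtype.ext (by simp [f])⟩
      rw [map_mul, map_mul, map_inv, map_inv, show σ (σ x) = x⁻¹ from hxI, inv_inv]
      have h5 : σ (σ r) = r * y⁻¹ := by rw [hy]; group
      rw [h5, ← hx2]
      group
  rw [← Nat.card_congr (Equiv.ofBijective f hf'), Nat.card_prod]

/-- There is an invariant Sylow subgroup containing every invariant `p`-subgroup. -/
theorem exists_sylow_max (hf : ∀ r, σ r = r → r = 1) (p : ℕ) [Fact p.Prime] :
    ∃ P : Sylow p R, (∀ x ∈ (P : Subgroup R), σ x ∈ (P : Subgroup R)) ∧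
      ∀ U : Subgroup R, IsPGroup p U → (∀ x ∈ U, σ x ∈ U) → U ≤ (P : Subgroup R) := by
  classical
  have hfix : MonoidHom.FixedPointFree ((σ : R ≃* R) : R →* R) := fun r hr => hf r hr
  obtain ⟨P, hP⟩ := Cfsg.Agent.S0031.result (σ : R ≃* R) hfix p
  have hPi : ∀ x ∈ (P : Subgroup R), σ x ∈ (P : Subgroup R) := fun x hx => hP ▸ mem_map_of_mem _ hx
  refine ⟨P, hPi, ?_⟩
  -- invariant Sylow subgroups are equal
  have huniq : ∀ P' : Sylow p R, (∀ x ∈ (P' : Subgroup R), σ x ∈ (P' : Subgroup R)) →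
      (P' : Subgroup R) = P := by
    intro P' hP'
    obtain ⟨g, hg⟩ := MulAction.exists_smul_eq R P P'
    have hmem : ∀ x, x ∈ (P' : Subgroup R) ↔ g⁻¹ * x * g ∈ (P : Subgroup R) := by
      intro x
      rw [← hg, Sylow.coe_subgroup_smul, Subgroup.mem_pointwise_smul_iff_inv_smul_mem,
        ← map_inv, MulAut.smul_def, MulAut.conj_apply, inv_inv]
    have hN : ∀ n ∈ normalizer ((P : Subgroup R) : Set R),
        σ n ∈ normalizer ((P : Subgroup R) : Set R) := by
      intro n hn
      refine mem_normalizer_of_forall ?_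
      intro x hx
      obtain ⟨y, hy, rfl⟩ : x ∈ (P : Subgroup R).map ((σ : R ≃* R) : R →* R) := hP.symm ▸ hx
      have h6 := hPi _ ((mem_normalizer_iff.1 hn y).1 hy)
      simpa [map_mul, map_inv] using h6
    have hk : g⁻¹ * σ g ∈ normalizer ((P : Subgroup R) : Set R) := by
      refine mem_normalizer_of_forall ?_
      intro x hx
      obtain ⟨y, hy, rfl⟩ : x ∈ (P : Subgroup R).map ((σ : R ≃* R) : R →* R) := hP.symm ▸ hx
      have h1 : g * y * g⁻¹ ∈ (P' : Subgroup R) := (hmem _).2 (by
        rw [show g⁻¹ * (g * y * g⁻¹) * g = y by group]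
        exact hy)
      have h2 := (hmem _).1 (hP' _ h1)
      simpa [mul_assoc, map_mul, map_inv] using h2
    obtain ⟨n, hn, hne⟩ := exists_inv_mul_map hf _ hN hk
    have hgn : σ (g * n⁻¹) = g * n⁻¹ := by
      rw [map_mul, map_inv, show σ g = g * (g⁻¹ * σ g) by group, hne]
      group
    have hgn' : g = n := mul_inv_eq_one.1 (hf _ hgn)
    ext x
    rw [hmem, hgn']
    exact (mem_normalizer_iff''.1 hn x).symm
  intro U hU hUi
  obtain ⟨V, hUV, ⟨hVp, hVi⟩, hVmax⟩ :=
    (Set.toFinite {V : Subgroup R | IsPGroup p V ∧ ∀ x ∈ V, σ x ∈ V}).exists_le_maximal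
      (show U ∈ _ from ⟨hU, hUi⟩)
  let N := normalizer (V : Set R)
  have hNi : N.map ((σ : R ≃* R) : R →* R) = N := by
    refine Subgroup.eq_of_le_of_card_ge ?_ (by rw [card_map_of_injective (σ : R ≃* R).injective])
    rintro _ ⟨n, hn, rfl⟩
    refine mem_normalizer_of_forall ?_
    intro x hx
    have hVm : V.map ((σ : R ≃* R) : R →* R) = V :=
      Subgroup.eq_of_le_of_card_ge (by rintro _ ⟨y, hy, rfl⟩; exact hVi y hy)
        (by rw [card_map_of_injective (σ : R ≃* R).injective])
    obtain ⟨y, hy, rfl⟩ : x ∈ V.map ((σ : R ≃* R) : R →* R) := hVm.symm ▸ hx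
    simpa [map_mul, map_inv] using hVi _ ((mem_normalizer_iff.1 hn y).1 hy)
  let τ : N ≃* N := ((σ : R ≃* R).subgroupMap N).trans (MulEquiv.subgroupCongr hNi)
  have hτ : ∀ x : N, ((τ x : N) : R) = σ (x : R) := fun _ => rfl
  obtain ⟨W, hW⟩ := Cfsg.Agent.S0031.result τ
    (fun x hx => Subtype.ext (hf _ (by rw [← hτ]; exact congrArg Subtype.val hx))) p
  have hW' : ((W : Subgroup N).map N.subtype) ∈ {V : Subgroup R | IsPGroup p V ∧ ∀ x ∈ V, σ x ∈ V} := by
    refine ⟨W.2.map _, ?_⟩
    rintro _ ⟨w, hw, rfl⟩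
    exact ⟨τ w, hW ▸ mem_map_of_mem _ hw, hτ w⟩
  have hVW : V ≤ (W : Subgroup N).map N.subtype := by
    intro v hv
    have hp' : IsPGroup p (V.subgroupOf N) :=
      hVp.of_equiv (subgroupOfEquivOfLe le_normalizer).symm
    exact ⟨⟨v, le_normalizer hv⟩, hp'.le_sylow_of_normal W (mem_subgroupOf.2 hv), rfl⟩
  have hVeq : (W : Subgroup N).map N.subtype = V := le_antisymm (hVmax hW' hVW) hVW
  have hVmax' : ∀ {Q : Subgroup R}, IsPGroup p Q → V ≤ Q → Q = V := by
    intro Q hQ hVQ
    by_contra hne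
    have hlt : V.subgroupOf Q < ⊤ := by
      rw [lt_top_iff_ne_top]
      intro h
      exact hne (le_antisymm (fun q hq => mem_subgroupOf.1 (h ▸ mem_top (⟨q, hq⟩ : Q))) hVQ)
    haveI := hQ.isNilpotent
    obtain ⟨⟨q, hq⟩, hqN, hqV⟩ := SetLike.exists_of_lt (normalizerCondition_of_isNilpotent _ hlt)
    have hqN' : q ∈ N := by
      refine mem_normalizer_of_forall ?_
      intro x hx
      exact mem_subgroupOf.1 ((mem_normalizer_iff.1 hqN ⟨x, hVQ hx⟩).1 (mem_subgroupOf.2 hx))
    have hle : (⟨q, hqN'⟩ : N) ∈ (W : Subgroup N) := by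
      have hpw : IsPGroup p ((Q ⊓ N).subgroupOf N) :=
        (hQ.to_le inf_le_left).of_equiv (subgroupOfEquivOfLe inf_le_right).symm
      have heq := W.is_maximal' hpw (fun w hw => mem_subgroupOf.2
        ⟨hVQ (hVeq ▸ mem_map_of_mem _ hw), w.2⟩)
      rw [← heq]
      exact mem_subgroupOf.2 ⟨hq, hqN'⟩
    exact hqV (mem_subgroupOf.2 (hVeq ▸ mem_map_of_mem N.subtype hle))
  exact hUV.trans (huniq ⟨V, hVp, hVmax'⟩ hVi).le

/-- A finite group with a fixed-point-free automorphism `σ`, `σ ^ 4 = 1`, is solvable. -/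
theorem isSolvable (h4 : σ ^ 4 = 1) (hf : ∀ r, σ r = r → r = 1) : Group.IsSolvable R := by
  classical
  set n := Nat.card R with hn
  let ι := {p : ℕ // p ∈ n.primeFactors}
  haveI hpr : ∀ i : ι, Fact i.1.Prime := fun i => ⟨Nat.prime_of_mem_primeFactors i.2⟩
  choose P hPi hPmax using fun i : ι => exists_sylow_max hf i.1
  set A := fixedSq σ with hA
  haveI : IsMulCommutative A := ⟨⟨fun a b => Subtype.ext (fixed_commute hf a.2 b.2)⟩⟩
  have hAi : ∀ a ∈ A, σ a ∈ A := fun a ha => mem_fixedSq.2 (congrArg σ (mem_fixedSq.1 ha))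
  let m : ι → ℕ := fun i => n / i.1 ^ n.factorization i.1
  -- the prime power part of an inverted element lies in the invariant Sylow subgroup
  have hpart : ∀ (i : ι) (x : R), Inv σ x → x ^ m i ∈ (P i : Subgroup R) ∧ Inv σ (x ^ m i) := by
    intro i x hx
    refine ⟨?_, hx.pow _⟩
    set y := x ^ m i with hy
    have hyp : y ^ i.1 ^ n.factorization i.1 = 1 := by
      rw [hy, ← pow_mul, Nat.div_mul_cancel (Nat.ordProj_dvd n i.1), hn, pow_card_eq_one']
    have hc : Commute y (σ y) := (hx.pow _).commute_map h4 hf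
    haveI : IsMulCommutative (Subgroup.closure ({y, σ y} : Set R)) := isMulCommutative_closure (by
      rintro a (rfl | rfl) b (rfl | rfl)
      exacts [rfl, hc.eq, hc.eq.symm, rfl])
    refine hPmax i (closure {y, σ y}) ?_ ?_ (subset_closure (by simp))
    · rintro ⟨z, hz⟩
      refine ⟨n.factorization i.1, Subtype.ext ?_⟩
      show z ^ i.1 ^ n.factorization i.1 = 1
      induction hz using closure_induction with
      | mem a ha =>
        rcases ha with rfl | rfl
        · exact hyp
        · rw [← map_pow, hyp, map_one]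
      | one => simp
      | mul a b ha hb iha ihb =>
        have : Commute a b := congrArg Subtype.val
          (mul_comm' (⟨a, ha⟩ : Subgroup.closure ({y, σ y} : Set R)) ⟨b, hb⟩)
        rw [this.mul_pow, iha, ihb, one_mul]
      | inv a ha iha => rw [inv_pow, iha]; exact inv_one
    · intro z hz
      have hy2 : σ (σ y) = y⁻¹ := hx.pow _
      have h : Subgroup.closure ({y, σ y} : Set R) ≤ (Subgroup.closure ({y, σ y} : Set R)).comap (σ : R ≃* R).toMonoidHom := by
        rw [closure_le]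
        rintro a (rfl | rfl)
        · exact subset_closure (Or.inr rfl)
        · show σ (σ y) ∈ Subgroup.closure _
          rw [hy2]
          exact inv_mem (subset_closure (by simp))
      exact h hz
  -- counting
  let J : ι → Type _ := fun i => {x : R // x ∈ (P i : Subgroup R) ∧ Inv σ x}
  let Φ : {x : R // Inv σ x} → (∀ i, J i) := fun x i => ⟨x.1 ^ m i, hpart i x.1 x.2⟩
  have hΦinj : Function.Injective Φ := by
    intro x y hxy
    let S : AddSubgroup ℤ :=
      { carrier := {k : ℤ | x.1 ^ k = y.1 ^ k}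
        zero_mem' := by simp
        add_mem' := fun {a b} ha hb => by
          simp only [Set.mem_setOf_eq] at ha hb ⊢
          rw [zpow_add, zpow_add, ha, hb]
        neg_mem' := fun {a} ha => by
          simp only [Set.mem_setOf_eq] at ha ⊢
          rw [zpow_neg, zpow_neg, ha] }
    have hmS : ∀ i, (m i : ℤ) ∈ S := fun i => by
      show x.1 ^ (m i : ℤ) = y.1 ^ (m i : ℤ)
      rw [zpow_natCast, zpow_natCast]
      exact congrArg Subtype.val (congrFun hxy i)
    obtain ⟨d, hd⟩ := Int.subgroup_cyclic S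
    have hnS : (n : ℤ) ∈ S := by
      show x.1 ^ (n : ℤ) = y.1 ^ (n : ℤ)
      rw [zpow_natCast, zpow_natCast, hn, pow_card_eq_one', pow_card_eq_one']
    have hdvd : ∀ k ∈ S, d ∣ k := fun k hk => by
      rw [hd, AddSubgroup.mem_closure_singleton] at hk
      obtain ⟨c, rfl⟩ := hk
      exact ⟨c, by rw [zsmul_eq_mul, mul_comm]; simp⟩
    have hd1 : d.natAbs = 1 := by
      by_contra hne
      obtain ⟨q, hq, hqd⟩ := Nat.exists_prime_and_dvd hne
      have hqn : q ∣ n := hqd.trans (Int.natAbs_dvd_natAbs.2 (hdvd _ hnS) |>.trans (by simp))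
      have hqi : q ∈ n.primeFactors := Nat.mem_primeFactors.2 ⟨hq, hqn, Nat.card_pos.ne'⟩
      exact Nat.not_dvd_ordCompl hq Nat.card_pos.ne'
        (hqd.trans ((Int.natAbs_dvd_natAbs.2 (hdvd _ (hmS ⟨q, hqi⟩))).trans (dvd_of_eq (Int.natAbs_natCast _))))
    have h1 : (1 : ℤ) ∈ S := by
      rw [hd]
      rcases Int.natAbs_eq d with h | h <;> rw [h, hd1, AddSubgroup.mem_closure_singleton]
      · exact ⟨1, by simp⟩
      · exact ⟨-1, by simp⟩
    exact Subtype.ext (by simpa [S] using (show x.1 ^ (1 : ℤ) = y.1 ^ (1 : ℤ) from h1))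
  have hcardeq : Nat.card {x : R // Inv σ x} = Nat.card (∀ i, J i) := by
    rw [Nat.card_pi]
    have hA' : ∀ i, Nat.card (A ⊓ (P i : Subgroup R) : Subgroup R) =
        i.1 ^ (Nat.card A).factorization i.1 := by
      intro i
      obtain ⟨Q⟩ : Nonempty (Sylow i.1 A) := inferInstance
      haveI : (Q : Subgroup A).Normal := ⟨fun a ha g => by rwa [mul_comm' g a, mul_inv_cancel_right]⟩
      haveI := (Q.unique_of_normal inferInstance)
      have hQ : (Q : Subgroup A).map A.subtype = A ⊓ (P i : Subgroup R) := by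
        refine le_antisymm (le_inf (map_subtype_le _) (hPmax i _ (Q.2.map _) ?_)) ?_
        · rintro _ ⟨a, ha, rfl⟩
          refine ⟨⟨σ a.1, hAi _ a.2⟩, ?_, rfl⟩
          have : (⟨σ a.1, hAi _ a.2⟩ : A) = a⁻¹ := Subtype.ext (fixed_inverted hf a.2)
          rw [this]
          exact inv_mem ha
        · intro r hr
          refine ⟨⟨r, hr.1⟩, ?_, rfl⟩
          haveI : ((P i : Subgroup R).subgroupOf A).Normal :=
            ⟨fun a ha g => by rwa [mul_comm' g a, mul_inv_cancel_right]⟩
          exact ((P i).2.comap_subtype (K := A)).le_sylow_of_normal Q (mem_subgroupOf.2 hr.2)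
      rw [← hQ, card_map_of_injective A.subtype_injective, Q.card_eq_multiplicity]
    have hJ : ∀ i, Nat.card (J i) * i.1 ^ (Nat.card A).factorization i.1 = i.1 ^ n.factorization i.1 := by
      intro i
      rw [← hA' i, mul_comm, ← card_split h4 hf _ (hPi i), (P i).card_eq_multiplicity]
    have htot : ∀ k : ℕ, k ∣ n → (∏ i : ι, i.1 ^ k.factorization i.1) = k := by
      intro k hk
      have hk0 : k ≠ 0 := ne_zero_of_dvd_ne_zero Nat.card_pos.ne' hk
      rw [Finset.univ_eq_attach, Finset.prod_attach n.primeFactors (fun p => p ^ k.factorization p),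
        ← Finset.prod_subset (Nat.primeFactors_mono hk Nat.card_pos.ne') fun p _ hp => by
          rw [← Nat.support_factorization, Finsupp.notMem_support_iff] at hp
          rw [hp, pow_zero]]
      conv_rhs => rw [← Nat.prod_factorization_pow_eq_self hk0]
      rw [Finsupp.prod, Nat.support_factorization]
    have e1 : (∏ i, Nat.card (J i)) * Nat.card A = n := by
      conv_lhs => rw [← htot _ A.card_subgroup_dvd_card]
      rw [← Finset.prod_mul_distrib, Finset.prod_congr rfl fun i _ => hJ i, htot n dvd_rfl]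
    have e2 : n = Nat.card A * Nat.card {x : R // Inv σ x} := by
      have h := card_split h4 hf ⊤ (fun h _ => mem_top _)
      rw [inf_top_eq, card_top] at h
      rw [hn, h]
      exact congrArg _ (Nat.card_congr (Equiv.subtypeEquivRight fun x => by simp))
    refine Nat.eq_of_mul_eq_mul_left (Nat.card_pos (α := A)) ?_
    rw [← e2, mul_comm, e1]
  have hsurj : Function.Surjective Φ :=
    ((Nat.bijective_iff_injective_and_card Φ).2 ⟨hΦinj, hcardeq⟩).2
  -- the generators commute across primes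
  let D : ι → Subgroup R := fun i => closure {x : R | x ∈ (P i : Subgroup R) ∧ Inv σ x}
  have hDcomm : Pairwise fun i j => ∀ x y : R, x ∈ D i → y ∈ D j → Commute x y := by
    intro i j hij x y hx hy
    have hgen : ∀ u ∈ {x : R | x ∈ (P i : Subgroup R) ∧ Inv σ x},
        ∀ v ∈ {x : R | x ∈ (P j : Subgroup R) ∧ Inv σ x}, v * u = u * v := by
      intro u hu v hv
      let c : ∀ k, J k := fun k => if h : k = i then ⟨u, h ▸ hu⟩ else
        if h' : k = j then ⟨v, h' ▸ hv⟩ else ⟨1, one_mem _, Inv.one⟩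
      obtain ⟨z, hz⟩ := hsurj c
      have hzu : z.1 ^ m i = u := by
        have := congrArg Subtype.val (congrFun hz i)
        simpa [Φ, c] using this
      have hzv : z.1 ^ m j = v := by
        have := congrArg Subtype.val (congrFun hz j)
        simpa [Φ, c, Ne.symm hij] using this
      rw [← hzu, ← hzv, ← pow_add, ← pow_add, add_comm]
    have h1 : D i ≤ centralizer {x : R | x ∈ (P j : Subgroup R) ∧ Inv σ x} := by
      rw [closure_le]
      intro u hu
      exact mem_centralizer_iff.2 fun v hv => hgen u hu v hv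
    have h2 : D j ≤ centralizer ({x} : Set R) := by
      rw [closure_le]
      intro v hv
      exact mem_centralizer_singleton_iff.2 (mem_centralizer_iff.1 (h1 hx) v hv)
    exact (mem_centralizer_singleton_iff.1 (h2 hy)).symm
  set N := ⨆ i, D i with hN
  haveI : Group.IsSolvable N := by
    have hrange := Subgroup.noncommPiCoprod_range (H := D) (hcomm := hDcomm)
    haveI : ∀ i, Group.IsNilpotent (D i) := fun i =>
      ((P i).2.to_le (show D i ≤ (P i : Subgroup R) by
        rw [closure_le]; exact fun x hx => hx.1)).isNilpotent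
    haveI : Group.IsNilpotent (∀ i, D i) := inferInstance
    exact Group.isSolvable_of_surjective (f := (MulEquiv.subgroupCongr hrange).toMonoidHom.comp
      (noncommPiCoprod hDcomm).rangeRestrict)
      ((MulEquiv.subgroupCongr hrange).surjective.comp (MonoidHom.rangeRestrict_surjective _))
  have hIN : ∀ x : R, Inv σ x → x ∈ N := by
    intro x hx
    let S : AddSubgroup ℤ :=
      { carrier := {k : ℤ | x ^ k ∈ N}
        zero_mem' := by simp
        add_mem' := fun {a b} ha hb => by
          simp only [Set.mem_setOf_eq] at ha hb ⊢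
          rw [zpow_add]; exact mul_mem ha hb
        neg_mem' := fun {a} ha => by
          simp only [Set.mem_setOf_eq] at ha ⊢
          rw [zpow_neg]; exact inv_mem ha }
    obtain ⟨d, hd⟩ := Int.subgroup_cyclic S
    have hdvd : ∀ k ∈ S, d ∣ k := fun k hk => by
      rw [hd, AddSubgroup.mem_closure_singleton] at hk
      obtain ⟨c, rfl⟩ := hk
      exact ⟨c, by rw [zsmul_eq_mul, mul_comm]; simp⟩
    have hnS : (n : ℤ) ∈ S := by
      show x ^ (n : ℤ) ∈ N
      rw [zpow_natCast, hn, pow_card_eq_one']; exact one_mem _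
    have hd1 : d.natAbs = 1 := by
      by_contra hne
      obtain ⟨q, hq, hqd⟩ := Nat.exists_prime_and_dvd hne
      have hqn : q ∣ n := hqd.trans (Int.natAbs_dvd_natAbs.2 (hdvd _ hnS) |>.trans (by simp))
      have hqi : q ∈ n.primeFactors := Nat.mem_primeFactors.2 ⟨hq, hqn, Nat.card_pos.ne'⟩
      have hmem : (m ⟨q, hqi⟩ : ℤ) ∈ S := by
        show x ^ (m ⟨q, hqi⟩ : ℤ) ∈ N
        rw [zpow_natCast]
        exact le_iSup D ⟨q, hqi⟩ (subset_closure (hpart _ x hx))
      exact Nat.not_dvd_ordCompl hq Nat.card_pos.ne'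
        (hqd.trans ((Int.natAbs_dvd_natAbs.2 (hdvd _ hmem)).trans (dvd_of_eq (Int.natAbs_natCast _))))
    have h1 : (1 : ℤ) ∈ S := by
      rw [hd]
      rcases Int.natAbs_eq d with h | h <;> rw [h, hd1, AddSubgroup.mem_closure_singleton]
      · exact ⟨1, by simp⟩
      · exact ⟨-1, by simp⟩
    simpa [S] using (show x ^ (1 : ℤ) ∈ N from h1)
  have hsplit : ∀ r : R, ∃ a ∈ A, ∃ x, Inv σ x ∧ r = a * x := by
    intro r
    set y := (σ (σ r))⁻¹ * r with hy
    obtain ⟨k, hk⟩ := odd_card h4 hf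
    have hyI : Inv σ y := by
      show σ (σ ((σ (σ r))⁻¹ * r)) = _
      rw [map_mul, map_inv, map_mul, map_inv, pow_four_apply h4, mul_inv_rev, inv_inv]
    have hx2 : y ^ (k + 1) * y ^ (k + 1) = y := by
      rw [← pow_add, show k + 1 + (k + 1) = Nat.card R + 1 by omega, pow_succ, pow_card_eq_one',
        one_mul]
    refine ⟨r * (y ^ (k + 1))⁻¹, mem_fixedSq.2 ?_, y ^ (k + 1), hyI.pow _, by group⟩
    rw [map_mul, map_mul, map_inv, map_inv,
      show σ (σ (y ^ (k + 1))) = (y ^ (k + 1))⁻¹ from hyI.pow _, inv_inv]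
    generalize y ^ (k + 1) = x at hx2
    have h5 : σ (σ r) = r * y⁻¹ := by rw [hy]; group
    rw [h5, ← hx2]
    group
  haveI : N.Normal := by
    rw [← normalizer_eq_top_iff, eq_top_iff]
    intro r _
    obtain ⟨a, ha, x, hx, rfl⟩ := hsplit r
    refine mul_mem ?_ (le_normalizer (hIN x hx))
    refine mem_normalizer_of_forall ?_
    have hle : N ≤ N.comap (MulAut.conj a).toMonoidHom := by
      refine iSup_le fun i => ?_
      rw [closure_le]
      intro u hu
      refine hIN _ ?_
      show σ (σ (a * u * a⁻¹)) = _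
      rw [map_mul, map_mul, map_inv, map_mul, map_mul, map_inv, mem_fixedSq.1 ha,
        show σ (σ u) = u⁻¹ from hu.2]
      simp [MulAut.conj_apply, mul_assoc]
    intro u hu
    simpa [MulAut.conj_apply] using hle hu
  haveI : Group.IsSolvable A := Group.isSolvable_of_comm fun a b => mul_comm' a b
  haveI : Group.IsSolvable (R ⧸ N) := by
    refine Group.isSolvable_of_surjective (f := (QuotientGroup.mk' N).comp A.subtype) ?_
    intro q
    induction q using QuotientGroup.induction_on with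
    | H r =>
      obtain ⟨a, ha, x, hx, rfl⟩ := hsplit r
      refine ⟨⟨a, ha⟩, QuotientGroup.eq.2 ?_⟩
      simpa using hIN x hx
  exact Group.isSolvable_of_ker_le_range N.subtype (QuotientGroup.mk' N) (by simp)

end CfsgLib.FpfFour
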